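import Cfsg.Agent.H458.B3.Sp
import Cfsg.Agent.S0270

/-!
# `Row3 2 (PSp m F)` for `|F|` odd, `m ≥ 2`, the row (helper458, task 2828)
-/

set_option autoImplicit false
set_option linter.unusedSectionVars false

namespace Cfsg.Agent.H458.B3Sp

open Matrix Cfsg Cfsg.Agent.H636.SympWreath Cfsg.Agent.H458.M2 Cfsg.Agent.H458.M2Sp Cfsg.Agent.H458.B3
open Cfsg.Agent.ClassicalGeometry.SympBasic Cfsg.Agent.ClassicalGeometry.SympAutSemi
open Cfsg.Agent.ClassicalGeometry.SympGamma

section lab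

variable {F : Type*} [Field F] {m : ℕ}

theorem exists_zeta [Finite F] (hq : 3 ≤ Nat.card F) : ∃ ζ : F, ζ ≠ 0 ∧ ζ ≠ 1 ∧
    ∀ φ : F ≃+* F, φ ζ = ζ → φ = RingEquiv.refl F := by
  have : Fintype F := Fintype.ofFinite F
  obtain ⟨z, hz⟩ := IsCyclic.exists_generator (α := Fˣ)
  have hall : ∀ y : F, y = 0 ∨ ∃ n : ℤ, y = ((z ^ n : Fˣ) : F) := by
    intro y
    by_cases hy : y = 0
    · exact Or.inl hy
    · right
      obtain ⟨n, hn⟩ := Subgroup.mem_zpowers_iff.1 (hz (Units.mk0 y hy))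
      exact ⟨n, by rw [hn]; rfl⟩
  refine ⟨z, z.ne_zero, fun h1 => ?_, fun φ hφ => ?_⟩
  · have h2 : z = 1 := Units.ext h1
    have h3 : Nat.card F ≤ 2 := by
      classical
      rw [Nat.card_eq_fintype_card]
      have : (Finset.univ : Finset F) ⊆ {0, 1} := by
        intro y _
        rcases hall y with h | ⟨n, h⟩
        · simp [h]
        · rw [h2, _root_.one_zpow] at h
          simp [h]
      exact (Finset.card_le_card this).trans Finset.card_le_two
    omega
  · ext y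
    rcases hall y with rfl | ⟨n, rfl⟩
    · rw [map_zero, map_zero]
    · rw [RingEquiv.refl_apply, Units.val_zpow_eq_zpow_val, map_zpow₀, hφ]

/-- **the labels** -/
theorem labels [Finite F] (hq : 3 ≤ Nat.card F) (hm : 2 ≤ m) (T : Subgroup (Equiv.Perm (Fin m)))
    (hT : IsPGroup 2 T) : ∃ t : Fin m → F, ∀ σ ∈ T, ∀ (φ : F ≃+* F) (a d : Fin m → F),
      (∀ j k, j ≠ k → a k = d j) → (∀ j, a j ≠ 0) → (∀ j, d j ≠ 0) → (∀ j, t (σ j) * d j = a j * φ (t j)) →
      (m ≠ 2 → σ = 1) ∧ (σ = 1 → φ = RingEquiv.refl F ∧ ∀ j k, a j = d k ∧ a j = a k) := by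
  obtain ⟨ζ, hζ0, hζ1, hζ⟩ := exists_zeta hq
  by_cases hm2 : m = 2
  · subst hm2
    refine ⟨![ζ, 1], fun σ _ φ a d had ha hd ht => ⟨fun h => absurd rfl h, fun hσ => ?_⟩⟩
    subst hσ
    have h0 := ht 0
    have h1 := ht 1
    have h2 := had 0 1 (by decide)
    have h3 := had 1 0 (by decide)
    simp only [Equiv.Perm.one_apply, Matrix.cons_val_zero, Matrix.cons_val_one, Matrix.cons_val_fin_one, map_one,
      mul_one, one_mul] at h0 h1
    have h4 : a 0 = d 0 := by rw [h3, h1, h2]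
    have h5 : φ ζ = ζ := by
      rw [h4, mul_comm] at h0
      exact (mul_left_cancel₀ (hd 0) h0).symm
    refine ⟨hζ φ h5, ?_⟩
    have h6 : a 1 = a 0 := by rw [h2, h4]
    have h7 : d 1 = a 0 := h3.symm
    have h8 : d 0 = a 0 := h4.symm
    intro j k
    fin_cases j <;> fin_cases k <;> simp [h6, h7, h8]
  · have hm3 : 3 ≤ m := by omega
    obtain ⟨c, hc⟩ := color (α := Fin m) T hT
    let j0 : Fin m := ⟨0, by omega⟩
    let κ : Fin 3 → F := fun i => if i = c j0 then ζ else if i = c j0 + 1 then 0 else 1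
    have hκ0 : κ (c j0) = ζ := if_pos rfl
    have hκ : ∀ i, κ i = ζ ∨ κ i = 0 ∨ κ i = 1 := by
      intro i
      change (if _ then _ else _) = ζ ∨ (if _ then _ else _) = (0 : F) ∨ (if _ then _ else _) = (1 : F)
      split_ifs <;> simp
    have hinj : Function.Injective κ := by
      have h01 : ∀ x : Fin 3, x + 1 ≠ x := by decide
      have h3 : ∀ x y z : Fin 3, y ≠ x → y ≠ x + 1 → z ≠ x → z ≠ x + 1 → y = z := by decide
      intro i i' hii
      change (if i = c j0 then ζ else if i = c j0 + 1 then 0 else 1) =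
        (if i' = c j0 then ζ else if i' = c j0 + 1 then 0 else 1) at hii
      by_cases e1 : i = c j0
      · by_cases e2 : i' = c j0
        · rw [e1, e2]
        · rw [if_pos e1, if_neg e2] at hii
          split_ifs at hii
          · exact absurd hii hζ0
          · exact absurd hii hζ1
      · by_cases e2 : i' = c j0
        · rw [if_neg e1, if_pos e2] at hii
          split_ifs at hii
          · exact absurd hii.symm hζ0
          · exact absurd hii.symm hζ1
        · rw [if_neg e1, if_neg e2] at hii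
          by_cases e3 : i = c j0 + 1
          · by_cases e4 : i' = c j0 + 1
            · rw [e3, e4]
            · rw [if_pos e3, if_neg e4] at hii
              exact absurd hii zero_ne_one
          · by_cases e4 : i' = c j0 + 1
            · rw [if_neg e3, if_pos e4] at hii
              exact absurd hii one_ne_zero
            · exact h3 _ _ _ e1 e3 e2 e4
    refine ⟨fun j => κ (c j), fun σ hσ φ a d had ha hd ht => ?_⟩
    have hex : ∀ j k : Fin m, ∃ l : Fin m, l ≠ j ∧ l ≠ k := by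
      intro j k
      have h4 : ((Finset.univ : Finset (Fin m)) \ {j, k}).Nonempty := by
        rw [← Finset.card_pos]
        have h5 := Finset.le_card_sdiff ({j, k} : Finset (Fin m)) Finset.univ
        have h6 : ({j, k} : Finset (Fin m)).card ≤ 2 := Finset.card_le_two
        rw [Finset.card_univ, Fintype.card_fin] at h5
        omega
      obtain ⟨l, hl⟩ := h4
      simp only [Finset.mem_sdiff, Finset.mem_univ, true_and, Finset.mem_insert, Finset.mem_singleton, not_or] at hl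
      exact ⟨l, hl.1, hl.2⟩
    have haa : ∀ j k, a j = a k := by
      intro j k
      obtain ⟨l, hl1, hl2⟩ := hex j k
      rw [had l j hl1, had l k hl2]
    have had' : ∀ j k, a j = d k := by
      intro j k
      obtain ⟨l, hl1, -⟩ := hex k k
      rw [haa j l, had k l hl1.symm]
    have ht' : ∀ j, κ (c (σ j)) = φ (κ (c j)) := by
      intro j
      have h1 : κ (c (σ j)) * d j = a j * φ (κ (c j)) := ht j
      rw [had' j j, mul_comm] at h1
      exact mul_left_cancel₀ (hd j) h1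
    have hφζ : φ ζ = ζ := by
      have h1 := ht' j0
      rw [hκ0] at h1
      rcases hκ (c (σ j0)) with h2 | h2 | h2
      · rw [← h1, h2]
      · rw [h2] at h1
        exact absurd ((map_eq_zero φ).1 h1.symm) hζ0
      · rw [h2] at h1
        exact absurd ((map_eq_one_iff φ φ.injective).1 h1.symm) hζ1
    have hφ := hζ φ hφζ
    have hσ1 : σ = 1 := by
      have h1 := hc ⟨σ, hσ⟩ (fun j => by
        have h2 := ht' j
        rw [hφ, RingEquiv.refl_apply] at h2
        exact hinj h2)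
      exact Equiv.ext h1
    exact ⟨fun _ => hσ1, fun _ => ⟨hφ, fun j k => ⟨had' j k, haa j k⟩⟩⟩

end lab

section row

variable {F : Type} [Field F] [Fintype F] {m : ℕ}

/-- `Sp` in the group of semisimilitudes -/
def sr (m : ℕ) (F : Type) [Field F] : Matrix.symplecticGroup (Fin m) F →* semiSim m F :=
  (rho m F).codRestrict (semiSim m F) fun A => ⟨_, _, one_ne_zero, isSemi_rho A⟩

theorem sr_coe (A : Matrix.symplecticGroup (Fin m) F) : (sr m F A).1 = rho m F A := rfl

theorem semi_finite : Finite (semiSim m F) := inferInstance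

/-- the stabiliser of the decomposition -/
def Hs (m : ℕ) (F : Type) [Field F] [Fintype F] : Subgroup (semiSim m F) where
  carrier := {g | ∃ σ, Van g.1 σ}
  one_mem' := ⟨1, Van.one⟩
  mul_mem' := by
    rintro g h ⟨σ, hσ⟩ ⟨τ, hτ⟩
    exact ⟨_, hσ.mul hτ⟩
  inv_mem' := by
    rintro g ⟨σ, hσ⟩
    have hfin : Finite (semiSim m F) := semi_finite
    have h1 : g⁻¹ = g ^ (orderOf g - 1) := by
      rw [inv_eq_iff_mul_eq_one, ← pow_succ']
      have h2 : orderOf g - 1 + 1 = orderOf g := by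
        have := orderOf_pos g
        omega
      rw [h2, pow_orderOf_eq_one]
    rw [h1]
    exact ⟨_, hσ.pow _⟩

theorem mem_Hs {g : semiSim m F} : g ∈ Hs m F ↔ ∃ σ, Van g.1 σ := Iff.rfl

/-- its image in `Aut (PSp)` -/
noncomputable def HA (m : ℕ) (F : Type) [Field F] [Fintype F] : Subgroup (MulAut (PSp m F)) := (Hs m F).map (Psi m F)

theorem van_scal (a : Fˣ) : Van (scal m F a) 1 := by
  intro v j h1 h2
  rw [scal_apply, Pi.smul_apply, Pi.smul_apply]
  simp [h1, h2]

theorem van_of_mem (hm : 1 ≤ m) {g : semiSim m F} (h : Psi m F g ∈ HA m F) : ∃ σ, Van g.1 σ := by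
  obtain ⟨g', ⟨σ, hσ⟩, hgg⟩ := h
  obtain ⟨a, ha⟩ := exists_scal_of_Psi_eq_one hm (g'⁻¹ * g) (by rw [map_mul, map_inv, hgg, inv_mul_cancel])
  refine ⟨σ * 1, ?_⟩
  have h1 : g.1 = g'.1 * scal m F a := by
    rw [← ha]
    change _ = (g' * (g'⁻¹ * g)).1
    rw [mul_inv_cancel_left]
  rw [h1]
  exact hσ.mul (van_scal a)

theorem uu_inj {s t : Fin m → F} (hm : 1 ≤ m) (h : Psi m F (sr m F (blk 1 fun j => uu (s j))) =
    Psi m F (sr m F (blk 1 fun j => uu (t j)))) : s = t := by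
  obtain ⟨a, ha⟩ := exists_scal_of_Psi_eq_one hm
    ((sr m F (blk 1 fun j => uu (t j)))⁻¹ * sr m F (blk 1 fun j => uu (s j)))
    (by rw [map_mul, map_inv, h, inv_mul_cancel])
  have h1 : rho m F (blk 1 fun j => uu (s j)) = rho m F (blk 1 fun j => uu (t j)) * scal m F a := by
    rw [← ha]
    change _ = (sr m F (blk 1 fun j => uu (t j)) * ((sr m F (blk 1 fun j => uu (t j)))⁻¹ *
      sr m F (blk 1 fun j => uu (s j)))).1
    rw [mul_inv_cancel_left]
    rfl
  funext j
  have h2 := DFunLike.congr_fun h1 (fv j)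
  have h3 := congrFun h2 (Sum.inr j)
  have h4 := congrFun h2 (Sum.inl j)
  rw [Equiv.Perm.mul_apply, scal_apply, (uu_act s _ j).2, (uu_act t _ j).2, Pi.smul_apply, fv_r] at h3
  rw [Equiv.Perm.mul_apply, scal_apply, (uu_act s _ j).1, (uu_act t _ j).1, Pi.smul_apply, Pi.smul_apply, fv_r,
    fv_l, ← mul_one (t j)] at h4
  rw [smul_eq_mul, mul_one] at h3
  rw [← h3] at h4
  simpa using h4

/-- the data of an element of `H ∩ x H x⁻¹` -/
theorem two (hm : 2 ≤ m) {g : semiSim m F} (h1 : Psi m F g ∈ HA m F)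
    (h2 : (Psi m F (sr m F (tv m F)))⁻¹ * Psi m F g * Psi m F (sr m F (tv m F)) ∈ HA m F) :
    ∃ (φ : F ≃+* F) (c : F) (σ : Equiv.Perm (Fin m)) (a b d : Fin m → F), c ≠ 0 ∧ IsSemi g.1 φ c ∧ Van g.1 σ ∧
      Dat g.1 φ σ a b d ∧ (∀ j, a j ≠ 0) ∧ (∀ j, d j ≠ 0) ∧ ∀ j k, j ≠ k → a k = d j := by
  obtain ⟨σ, hσ⟩ := van_of_mem (by omega) h1
  rw [← map_inv, ← map_mul, ← map_mul] at h2
  obtain ⟨τ, hτ⟩ := van_of_mem (by omega) h2
  obtain ⟨φ, c, hc, hg⟩ := g.2
  obtain ⟨a, b, d, hD, ha, hd, had⟩ := data hm hg hc hσ hτ (by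
    change (g * sr m F (tv m F)).1 = (sr m F (tv m F) * ((sr m F (tv m F))⁻¹ * g * sr m F (tv m F))).1
    congr 1
    group)
  exact ⟨φ, c, σ, a, b, d, hc, hg, hσ, hD, ha, hd, had⟩

/-- the permutations -/
def TA (R : Subgroup (MulAut (PSp m F))) : Subgroup (Equiv.Perm (Fin m)) where
  carrier := {σ | ∃ g : semiSim m F, Psi m F g ∈ R ∧ Van g.1 σ}
  one_mem' := ⟨1, by rw [map_one]; exact R.one_mem, Van.one⟩
  mul_mem' := by
    rintro σ τ ⟨g, hg, hσ⟩ ⟨h, hh, hτ⟩
    exact ⟨g * h, by rw [map_mul]; exact R.mul_mem hg hh, hσ.mul hτ⟩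
  inv_mem' := by
    rintro σ ⟨g, hg, hσ⟩
    have h1 : σ⁻¹ = σ ^ (orderOf σ * orderOf g - 1) := by
      rw [inv_eq_iff_mul_eq_one, ← pow_succ']
      have h2 : orderOf σ * orderOf g - 1 + 1 = orderOf σ * orderOf g := by
        have hfin : Finite (semiSim m F) := semi_finite
        have := Nat.mul_pos (orderOf_pos σ) (orderOf_pos g)
        omega
      rw [h2, pow_mul, pow_orderOf_eq_one, one_pow]
    rw [h1]
    exact ⟨g ^ (orderOf σ * orderOf g - 1), by rw [map_pow]; exact R.pow_mem hg _, hσ.pow _⟩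

theorem TA_isPGroup (hm : 1 ≤ m) {R : Subgroup (MulAut (PSp m F))} (hR : IsPGroup 2 R) : IsPGroup 2 (TA R) := by
  rintro ⟨σ, g, hg, hσ⟩
  obtain ⟨k, hk⟩ := hR ⟨_, hg⟩
  refine ⟨k, Subtype.ext ?_⟩
  change σ ^ 2 ^ k = 1
  have h1 : Psi m F (g ^ 2 ^ k) = 1 := by
    rw [map_pow]
    exact congrArg Subtype.val hk
  obtain ⟨a, ha⟩ := exists_scal_of_Psi_eq_one hm _ h1
  have h2 : Van (g.1 ^ 2 ^ k) (σ ^ 2 ^ k) := hσ.pow _
  have h3 : Van (g.1 ^ 2 ^ k) 1 := by
    have h4 : g.1 ^ 2 ^ k = scal m F a := ha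
    rw [h4]
    exact van_scal a
  obtain ⟨φ, c, hc, hgs⟩ := (g ^ 2 ^ k).2
  exact Van.unique (semi_zero hgs) h2 h3

theorem uu_pow (t : F) (k : ℕ) : uu t ^ k = uu ((k : F) * t) := by
  induction k with
  | zero => rw [pow_zero, Nat.cast_zero, zero_mul, uu_zero]
  | succ k ih =>
    rw [pow_succ, ih, uu_mul]
    congr 1
    push_cast
    ring

theorem van_uu (t : Fin m → F) : Van (rho m F (blk 1 fun j => uu (t j))) 1 := by
  intro v j h1 h2
  rw [Equiv.Perm.one_apply, (uu_act t v j).1, (uu_act t v j).2, h1, h2]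
  simp

theorem blk_act (σ : Equiv.Perm (Fin m)) (A : Fin m → SpecialLinearGroup (Fin 2) F) : Van (rho m F (blk σ A)) σ := by
  intro v j h1 h2
  rw [rho_apply]
  change (fromBlocks (mono σ fun j => (A j : Matrix (Fin 2) (Fin 2) F) 0 0)
    (mono σ fun j => (A j : Matrix (Fin 2) (Fin 2) F) 0 1)
    (mono σ fun j => (A j : Matrix (Fin 2) (Fin 2) F) 1 0)
    (mono σ fun j => (A j : Matrix (Fin 2) (Fin 2) F) 1 1) *ᵥ v) (Sum.inl (σ j)) = 0 ∧
    (fromBlocks (mono σ fun j => (A j : Matrix (Fin 2) (Fin 2) F) 0 0)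
    (mono σ fun j => (A j : Matrix (Fin 2) (Fin 2) F) 0 1)
    (mono σ fun j => (A j : Matrix (Fin 2) (Fin 2) F) 1 0)
    (mono σ fun j => (A j : Matrix (Fin 2) (Fin 2) F) 1 1) *ᵥ v) (Sum.inr (σ j)) = 0
  have h3 : ∀ (s : Fin m → F) (z : Fin m → F), (mono σ s *ᵥ z) (σ j) = s j * z j := by
    intro s z
    rw [Matrix.mulVec, dotProduct, Finset.sum_eq_single j]
    · rw [mono_apply, if_pos rfl]
    · intro k _ hk
      rw [mono_apply, if_neg (fun h => hk (σ.injective h).symm), zero_mul]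
    · simp
  rw [Matrix.fromBlocks_mulVec]
  simp only [Sum.elim_inl, Sum.elim_inr, Pi.add_apply, h3, Function.comp_apply, h1, h2, mul_zero, add_zero, and_self]

theorem exists_Psi (hm : 2 ≤ m) (h2 : (2 : F) ≠ 0) (x : MulAut (PSp m F)) : ∃ g : semiSim m F, Psi m F g = x :=
  Cfsg.Agent.ClassicalGeometry.SympAutExists.exists_semi hm x
    (Cfsg.Agent.ClassicalGeometry.SympAutRecog.recog_odd hm h2 x)

/-- the index of `HA` is odd -/
theorem index_HA (hm : 2 ≤ m) (h : Odd (Fintype.card F)) : ¬ 2 ∣ (HA m F).index := by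
  have : Fact (Nat.Prime 2) := ⟨Nat.prime_two⟩
  have h2 : (2 : F) ≠ 0 := Cfsg.Agent.H513.WandPSp.two_ne h
  have hi : ¬ 2 ∣ (HH m F).index := by
    obtain ⟨Q⟩ : Nonempty (Sylow 2 (SpecialLinearGroup (Fin 2) F)) := inferInstance
    obtain ⟨T⟩ : Nonempty (Sylow 2 (Equiv.Perm (Fin m))) := inferInstance
    obtain ⟨R, hR⟩ := Cfsg.Agent.H513.WandPSp.exists_sylow h m Q T
    intro h1
    refine R.not_dvd_index (h1.trans (Subgroup.index_dvd_of_le ?_))
    rw [hR]
    rintro _ ⟨σ, _, A, _, rfl⟩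
    exact mem_HH.2 ⟨σ, A, rfl⟩
  have h1 := index_comap_of_supp ((Psi m F).comp (sr m F)) (HA m F) (by
    intro x
    obtain ⟨g, rfl⟩ := exists_Psi hm h2 x
    obtain ⟨⟨φ, l, A⟩, rfl⟩ := (par_bijective (F := F) (m := m) (by omega)).2 g
    refine ⟨A⁻¹, ?_⟩
    rw [MonoidHom.comp_apply, ← map_mul]
    refine ⟨_, ⟨1, ?_⟩, rfl⟩
    have h3 : (sr m F A⁻¹ * par m F (φ, l, A)).1 = dilPerm m l * frobPerm m φ := by
      change rho m F A⁻¹ * (rho m F A * (dilPerm m l * frobPerm m φ)) = _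
      rw [map_inv, inv_mul_cancel_left]
    rw [h3]
    intro v j h4 h5
    rw [Equiv.Perm.mul_apply, Equiv.Perm.one_apply, dilPerm_inl, dilPerm_inr, frobPerm_apply, frobPerm_apply, h4, h5]
    simp)
  rw [← h1]
  intro h3
  apply hi
  refine h3.trans (Subgroup.index_dvd_of_le ?_)
  intro y hy
  obtain ⟨σ, A, rfl⟩ := mem_HH.1 hy
  exact ⟨_, ⟨σ, blk_act σ A⟩, rfl⟩

theorem not_comm (hm : 2 ≤ m) (h3 : 3 ≤ Fintype.card F) : ¬ IsMulCommutative (PSp m F) := by
  intro h
  have hs : IsSimpleGroup (PSp m F) := S0270.result m hm fun _ => h3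
  let _ : CommGroup (PSp m F) := { (inferInstance : Group (PSp m F)) with mul_comm := fun a b => h.is_comm.comm a b }
  obtain ⟨x, hx⟩ := exists_ne (1 : PSp m F)
  obtain ⟨g, rfl⟩ := QuotientGroup.mk_surjective x
  apply hx
  refine LieClassical.SympPerfect.map_eq_one (A := PSp m F) ?_ (QuotientGroup.mk' _) g
  by_cases h2 : m = 2
  · exact Or.inr (Or.inl ⟨h2, h3⟩)
  · left; omega

/-- the unipotent element as an automorphism -/
noncomputable def un (t : Fin m → F) : MulAut (PSp m F) := Psi m F (sr m F (blk 1 fun j => uu (t j)))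

/-- the normal subgroup -/
noncomputable def NA (m : ℕ) (F : Type) [Field F] : Subgroup (MulAut (PSp m F)) := (NN m F).map ((Psi m F).comp (sr m F))

theorem mem_NA {n : MulAut (PSp m F)} : n ∈ NA m F ↔ ∃ t : Fin m → F, n = un t := by
  constructor
  · rintro ⟨_, ⟨t, rfl⟩, rfl⟩
    exact ⟨t, rfl⟩
  · rintro ⟨t, rfl⟩
    exact ⟨_, ⟨t, rfl⟩, rfl⟩

theorem un_comm (t : Fin m → F) : un t * Psi m F (sr m F (tv m F)) = Psi m F (sr m F (tv m F)) * un t := by
  rw [un, ← map_mul, ← map_mul, ← map_mul, ← map_mul, tv_comm]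

theorem un_pow (hm : 1 ≤ m) (h2 : (2 : F) ≠ 0) {t : Fin m → F} {k : ℕ} (h : un t ^ 2 ^ k = 1) : t = 0 := by
  rw [un, ← map_pow, ← map_pow, blk_pow] at h
  have h1 : ((fun j => uu (t j)) ^ 2 ^ k : Fin m → SpecialLinearGroup (Fin 2) F) =
      fun j => uu (((2 ^ k : ℕ) : F) * t j) := by
    funext j
    rw [Pi.pow_apply, uu_pow]
  have h3 : Psi m F (sr m F (blk 1 fun j => uu ((0 : Fin m → F) j))) = 1 := by
    have : (blk 1 fun j => uu ((0 : Fin m → F) j)) = (1 : Matrix.symplecticGroup (Fin m) F) := by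
      rw [← blk_one]
      congr 1
      funext j
      exact uu_zero
    rw [this, map_one, map_one]
  rw [h1, ← h3] at h
  have h4 := uu_inj (s := fun j => ((2 ^ k : ℕ) : F) * t j) (t := 0) hm h
  funext j
  have h5 := congrFun h4 j
  rw [Pi.zero_apply, mul_eq_zero] at h5
  rcases h5 with h5 | h5
  · exfalso
    push_cast at h5
    exact pow_ne_zero k h2 h5
  · exact h5

theorem un_zero : (un 0 : MulAut (PSp m F)) = 1 := by
  have : (blk 1 fun j => uu ((0 : Fin m → F) j)) = (1 : Matrix.symplecticGroup (Fin m) F) := by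
    rw [← blk_one]
    congr 1
    funext j
    exact uu_zero
  rw [un, this, map_one, map_one]

/-- conjugation -/
theorem un_conj (g : semiSim m F) {φ : F ≃+* F} {σ : Equiv.Perm (Fin m)} {a b d : Fin m → F}
    (h : Dat g.1 φ σ a b d) {t t' : Fin m → F} (ht : ∀ j, t' (σ j) * d j = a j * φ (t j)) :
    Psi m F g * un t * (Psi m F g)⁻¹ = un t' := by
  rw [mul_inv_eq_iff_eq_mul, un, un, ← map_mul, ← map_mul]
  congr 1
  apply Subtype.ext
  exact h.conj ht

/-- linear elements with trivial permutation and equal entries are unipotent -/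
theorem eq_un {g : semiSim m F} (hm : 1 ≤ m) {a b d : Fin m → F} (h : Dat g.1 (RingEquiv.refl F) 1 a b d)
    (ha : ∀ j, a j ≠ 0) (hd : ∀ j k, a j = d k ∧ a j = a k) : ∃ t : Fin m → F, Psi m F g = un t := by
  let j0 : Fin m := ⟨0, hm⟩
  let z : Fˣ := Units.mk0 (a j0) (ha j0)
  refine ⟨fun j => b j / a j, ?_⟩
  have h1 : g = ⟨scal m F z, mem_scal z⟩ * sr m F (blk 1 fun j => uu (b j / a j)) := by
    apply Subtype.ext
    ext v i
    change g.1 v i = scal m F z (rho m F (blk 1 fun j => uu (b j / a j)) v) i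
    rw [scal_apply, Pi.smul_apply, smul_eq_mul]
    rcases i with i | i
    · have h2 := h.1 v i
      rw [Equiv.Perm.one_apply] at h2
      rw [h2, (uu_act (fun j => b j / a j) v i).1]
      change _ = a j0 * _
      rw [(hd j0 i).2, RingEquiv.refl_apply, RingEquiv.refl_apply]
      have h3 := ha i
      field_simp
    · have h2 := h.2 v i
      rw [Equiv.Perm.one_apply] at h2
      rw [h2, (uu_act (fun j => b j / a j) v i).2]
      change _ = a j0 * _
      rw [(hd j0 i).1, RingEquiv.refl_apply]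
  rw [h1, map_mul, Psi_scal, one_mul]
  rfl

/-- **the row** -/
theorem row2_psp (hm : 2 ≤ m) (h : Odd (Fintype.card F)) : Cfsg.Agent.H233.B3.Row3 2 (PSp m F) := by
  have : Fact (Nat.Prime 2) := ⟨Nat.prime_two⟩
  have h2 : (2 : F) ≠ 0 := Cfsg.Agent.H513.WandPSp.two_ne h
  have hq : 3 ≤ Fintype.card F := by
    have h1 : 1 < Fintype.card F := Fintype.one_lt_card
    obtain ⟨k, hk⟩ := h
    omega
  have hq' : 3 ≤ Nat.card F := by rwa [Nat.card_eq_fintype_card]
  have hs : IsSimpleGroup (PSp m F) := S0270.result m hm fun _ => hq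
  have hfin : Finite (PSp m F) := inferInstance
  have hm1 : 1 ≤ m := by omega
  refine row3_of_pair (not_comm hm hq) (comm_mem hm h2) rfl (index_HA hm h) (Psi m F (sr m F (tv m F)))
    (N := NA m F) ?_ ?_ ?_ ?_
  · intro n hn
    obtain ⟨t, rfl⟩ := mem_NA.1 hn
    have h1 : un t ∈ HA m F := ⟨_, ⟨1, van_uu t⟩, rfl⟩
    refine ⟨h1, ?_⟩
    rw [mul_assoc, un_comm, inv_mul_cancel_left]
    exact h1
  · intro n hn y hy hy'
    obtain ⟨t, rfl⟩ := mem_NA.1 hn
    obtain ⟨g, rfl⟩ := exists_Psi hm h2 y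
    obtain ⟨φ, c, σ, a, b, d, hc, hg, hσ, hD, ha, hd, had⟩ := two hm hy hy'
    refine mem_NA.2 ⟨fun i => a (σ.symm i) * φ (t (σ.symm i)) / d (σ.symm i), ?_⟩
    refine un_conj g hD fun j => ?_
    rw [σ.symm_apply_apply, div_mul_cancel₀ _ (hd j)]
  · intro n hn k hk
    obtain ⟨t, rfl⟩ := mem_NA.1 hn
    rw [un_pow hm1 h2 hk, un_zero]
  · intro R hR hRD
    obtain ⟨t, ht⟩ := labels hq' hm (TA R) (TA_isPGroup hm1 hR)
    refine ⟨un t, mem_NA.2 ⟨t, rfl⟩, ?_⟩
    -- the data of an element commuting with `u`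
    have key : ∀ g : semiSim m F, Psi m F g ∈ R → un t * Psi m F g = Psi m F g * un t →
        ∃ (φ : F ≃+* F) (σ : Equiv.Perm (Fin m)) (a b d : Fin m → F), Van g.1 σ ∧
          Dat g.1 φ σ a b d ∧ (∀ j, a j ≠ 0) ∧ (m ≠ 2 → σ = 1) ∧
          (σ = 1 → φ = RingEquiv.refl F ∧ ∀ j k, a j = d k ∧ a j = a k) := by
      intro g hgR hgu
      obtain ⟨k1, k2⟩ := hRD _ hgR
      obtain ⟨φ, c, σ, a, b, d, hc, hg, hσ, hD, ha, hd, had⟩ := two hm k1 k2
      have h3 : un (fun i => a (σ.symm i) * φ (t (σ.symm i)) / d (σ.symm i)) = un t := by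
        rw [← un_conj g hD (t := t) fun j => by rw [σ.symm_apply_apply, div_mul_cancel₀ _ (hd j)]]
        rw [← hgu, mul_inv_cancel_right]
      have h4 := uu_inj hm1 h3
      have h5 : ∀ j, t (σ j) * d j = a j * φ (t j) := by
        intro j
        rw [← h4]
        change a (σ.symm (σ j)) * φ (t (σ.symm (σ j))) / d (σ.symm (σ j)) * d j = a j * φ _
        rw [σ.symm_apply_apply, div_mul_cancel₀ _ (hd j)]
        rw [h4]
      obtain ⟨k3, k4⟩ := ht σ ⟨g, hgR, hσ⟩ φ a d had ha hd h5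
      exact ⟨φ, σ, a, b, d, hσ, hD, ha, k3, k4⟩
    -- trivial permutation
    have key1 : ∀ g : semiSim m F, Psi m F g ∈ R → un t * Psi m F g = Psi m F g * un t → Van g.1 1 →
        Psi m F g = 1 := by
      intro g hgR hgu hv
      obtain ⟨φ, σ, a, b, d, hσ, hD, ha, -, k4⟩ := key g hgR hgu
      obtain ⟨φ', c', hc', hg'⟩ := g.2
      have h3 : σ = 1 := Van.unique (semi_zero hg') hσ hv
      obtain ⟨h4, h5⟩ := k4 h3
      subst h3 h4
      obtain ⟨s, hs'⟩ := eq_un hm1 hD ha h5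
      obtain ⟨k, hk⟩ := hR ⟨_, hgR⟩
      have h6 : un s ^ 2 ^ k = 1 := by
        rw [← hs']
        exact congrArg Subtype.val hk
      rw [hs', un_pow hm1 h2 h6, un_zero]
    intro y hy y' hy' hyu hyu' hy1 hy1'
    obtain ⟨g, rfl⟩ := exists_Psi hm h2 y
    obtain ⟨g', rfl⟩ := exists_Psi hm h2 y'
    obtain ⟨φ, σ, a, b, d, hσ, hD, ha, k3, k4⟩ := key g hy hyu
    obtain ⟨φ', σ', a', b', d', hσ', hD', ha', k3', k4'⟩ := key g' hy' hyu'
    have hσ1 : σ ≠ 1 := fun h => hy1 (key1 g hy hyu (by rw [← h]; exact hσ))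
    have hσ1' : σ' ≠ 1 := fun h => hy1' (key1 g' hy' hyu' (by rw [← h]; exact hσ'))
    have hm2 : m = 2 := by
      by_contra hcon
      exact hσ1 (k3 hcon)
    have hss : σ * σ' = 1 := by
      subst hm2
      revert hσ1 hσ1'
      clear * -
      revert σ σ'
      decide
    have hss' : σ' * σ' = 1 := by
      subst hm2
      revert hσ1'
      clear * -
      revert σ'
      decide
    have h7 : Psi m F (g * g') = 1 := by
      refine key1 (g * g') (by rw [map_mul]; exact R.mul_mem hy hy') ?_ ?_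
      · rw [map_mul, ← mul_assoc, hyu, mul_assoc, hyu', mul_assoc]
      · rw [← hss]
        exact hσ.mul hσ'
    have h8 : Psi m F (g' * g') = 1 := by
      refine key1 (g' * g') (by rw [map_mul]; exact R.mul_mem hy' hy') ?_ ?_
      · rw [map_mul, ← mul_assoc, hyu', mul_assoc, hyu', mul_assoc]
      · rw [← hss']
        exact hσ'.mul hσ'
    rw [map_mul] at h7 h8
    exact mul_right_cancel (h7.trans h8.symm)

end row

end Cfsg.Agent.H458.B3Sp
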