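import Cfsg.Agent.H458.M2.Pair
import Cfsg.Agent.H233.B3.Row2

/-!
# The pair lemma for the rows `Row3 2 T` (helper458, task 2828)

* `core` : `H` of index prime to `p`, `D = H ∩ x H x⁻¹`, `N ≤ D` normalised by `D` without elements of order `p`;
  then there is a `p`-subgroup `R` of `D` such that for all `u ∈ N` two Sylow subgroups meet in `C_R(u)`.
* `row3_of_pair` : the version for `Aut T`, `Out T` commutative.
-/

set_option autoImplicit false

namespace Cfsg.Agent.H458.B3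

open Subgroup Cfsg.Agent.H458.M2 Cfsg.Agent.H233.B3

section core

variable {p : ℕ} [Fact p.Prime] {G : Type*} [Group G] [Finite G]

/-- **The pair lemma**, Sylow form. -/
theorem core {H N : Subgroup G} (hi : ¬ p ∣ H.index) (x : G)
    (hN : ∀ n ∈ N, n ∈ H ∧ x⁻¹ * n * x ∈ H)
    (hN1 : ∀ n ∈ N, ∀ y ∈ H, x⁻¹ * y * x ∈ H → y * n * y⁻¹ ∈ N)
    (hN2 : ∀ n ∈ N, ∀ k, n ^ p ^ k = 1 → n = 1) :
    ∃ R : Subgroup G, IsPGroup p R ∧ (∀ y ∈ R, y ∈ H ∧ x⁻¹ * y * x ∈ H) ∧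
      ∀ u ∈ N, ∃ P P' : Sylow p G, ∀ y, y ∈ P → y ∈ P' → y ∈ R ∧ u * y = y * u := by
  let H' : Subgroup G := H.comap (MulAut.conj x⁻¹).toMonoidHom
  have hH' : ∀ y, y ∈ H' ↔ x⁻¹ * y * x ∈ H := by
    intro y
    rw [mem_comap]
    change x⁻¹ * y * x⁻¹⁻¹ ∈ H ↔ _
    rw [inv_inv]
  have hi' : ¬ p ∣ H'.index := by
    rw [Subgroup.index_comap_of_surjective _ (MulAut.conj x⁻¹).surjective]
    exact hi
  let D : Subgroup G := H ⊓ H'
  have hD : ∀ y, y ∈ D ↔ y ∈ H ∧ x⁻¹ * y * x ∈ H := by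
    intro y
    rw [mem_inf, hH']
  obtain ⟨S⟩ : Nonempty (Sylow p D) := inferInstance
  let R : Subgroup G := (S : Subgroup D).map D.subtype
  have hR : IsPGroup p R := S.isPGroup'.map _
  have hRD : R ≤ D := by
    rintro _ ⟨y, _, rfl⟩
    exact y.2
  -- maximality
  have hmax : ∀ Q : Subgroup G, IsPGroup p Q → R ≤ Q → ∀ y ∈ Q, y ∈ D → y ∈ R := by
    intro Q hQ hRQ y hy hyD
    have h1 : IsPGroup p (Q.subgroupOf D) := hQ.comap_of_injective _ D.subtype_injective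
    have h2 : (S : Subgroup D) ≤ Q.subgroupOf D := by
      intro s hs
      exact hRQ ⟨s, hs, rfl⟩
    have h3 := S.is_maximal' h1 h2
    have h4 : (⟨y, hyD⟩ : D) ∈ Q.subgroupOf D := hy
    rw [h3] at h4
    exact ⟨_, h4, rfl⟩
  refine ⟨R, hR, fun y hy => (hD y).1 (hRD hy), fun u huN => ?_⟩
  have huD : u ∈ D := (hD u).2 (hN u huN)
  obtain ⟨P, hP1, hP2⟩ := exists_sylow_le hi hR (hRD.trans inf_le_left)
  let R' : Subgroup G := R.map (MulAut.conj u).toMonoidHom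
  have hR' : IsPGroup p R' := hR.map _
  have hR'D : R' ≤ H' := by
    rintro _ ⟨y, hy, rfl⟩
    change u * y * u⁻¹ ∈ H'
    exact H'.mul_mem (H'.mul_mem (mem_inf.1 huD).2 (mem_inf.1 (hRD hy)).2) (H'.inv_mem (mem_inf.1 huD).2)
  obtain ⟨P', hP'1, hP'2⟩ := exists_sylow_le hi' hR' hR'D
  refine ⟨P, P', fun y hy hy' => ?_⟩
  have hyD : y ∈ D := mem_inf.2 ⟨hP2 hy, hP'2 hy'⟩
  have h1 : y ∈ R := hmax P P.isPGroup' hP1 y hy hyD
  have h2 : u⁻¹ * y * u ∈ R := by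
    refine hmax ((P' : Subgroup G).comap (MulAut.conj u).toMonoidHom)
      (P'.isPGroup'.comap_of_injective _ (MulAut.conj u).injective) ?_ _ ?_ ?_
    · intro r hr
      rw [mem_comap]
      exact hP'1 ⟨r, hr, rfl⟩
    · rw [mem_comap]
      change u * (u⁻¹ * y * u) * u⁻¹ ∈ (P' : Subgroup G)
      have : u * (u⁻¹ * y * u) * u⁻¹ = y := by group
      rw [this]
      exact hy'
    · exact D.mul_mem (D.mul_mem (D.inv_mem huD) hyD) huD
  have h3 : y⁻¹ * u⁻¹ * y * u ∈ N := by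
    have h4 := hN1 u⁻¹ (N.inv_mem huN) y⁻¹ (H.inv_mem ((hD y).1 hyD).1) (by
      have h5 := H.inv_mem ((hD y).1 hyD).2
      have h6 : (x⁻¹ * y * x)⁻¹ = x⁻¹ * y⁻¹ * x := by group
      rwa [h6] at h5)
    rw [inv_inv] at h4
    exact N.mul_mem h4 huN
  have h4 : y⁻¹ * u⁻¹ * y * u ∈ R := by
    have h5 := R.mul_mem (R.inv_mem h1) h2
    have h6 : y⁻¹ * (u⁻¹ * y * u) = y⁻¹ * u⁻¹ * y * u := by group
    rwa [h6] at h5
  obtain ⟨k, hk⟩ := hR ⟨_, h4⟩
  have h5 : y⁻¹ * u⁻¹ * y * u = 1 := hN2 _ h3 k (congrArg Subtype.val hk)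
  refine ⟨h1, ?_⟩
  have h6 : (u * y) * (y⁻¹ * u⁻¹ * y * u) = y * u := by group
  rw [← h6, h5, mul_one]

end core

/-- at most one nontrivial element -/
theorem card_le_two {G : Type*} [Group G] {D : Subgroup G} (h : ∀ y ∈ D, ∀ y' ∈ D, y ≠ 1 → y' ≠ 1 → y = y') :
    Nat.card D ≤ 2 := by
  classical
  have h1 : Function.Injective (fun y : D => decide ((y : G) = 1)) := by
    intro y y' hyy
    have h2 : (y : G) = 1 ↔ (y' : G) = 1 := by simpa using hyy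
    by_cases h3 : (y : G) = 1
    · exact Subtype.ext (h3.trans (h2.1 h3).symm)
    · exact Subtype.ext (h y y.2 y' y'.2 h3 fun h4 => h3 (h2.2 h4))
  have h2 := Nat.card_le_card_of_injective _ h1
  simpa using h2

/-- index of a supplement -/
theorem index_comap_of_supp {A G : Type*} [Group A] [Group G] (ι : A →* G) (H : Subgroup G)
    (h : ∀ g, ∃ a : A, ι a * g ∈ H) : (H.comap ι).index = H.index := by
  let _ : MulAction A (G ⧸ H) := MulAction.compHom _ ι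
  have hsm : ∀ (a : A) (g : G), a • (QuotientGroup.mk g : G ⧸ H) = QuotientGroup.mk (ι a * g) := fun _ _ => rfl
  have h1 : MulAction.stabilizer A (QuotientGroup.mk 1 : G ⧸ H) = H.comap ι := by
    ext a
    rw [MulAction.mem_stabilizer_iff, hsm, mul_one, mem_comap, eq_comm, QuotientGroup.eq, inv_one, one_mul]
  have h2 : MulAction.IsPretransitive A (G ⧸ H) := by
    refine (MulAction.isPretransitive_iff_base (QuotientGroup.mk 1 : G ⧸ H)).2 ?_
    intro y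
    obtain ⟨g, rfl⟩ := QuotientGroup.mk_surjective y
    obtain ⟨a, ha⟩ := h g
    refine ⟨a⁻¹, ?_⟩
    rw [hsm, mul_one, map_inv, QuotientGroup.eq, inv_inv]
    exact ha
  rw [← h1, MulAction.index_stabilizer_of_transitive]
  rfl

/-- **The pair lemma for `Row3`.** -/
theorem row3_of_pair {p : ℕ} {T : Type*} [Group T] [Finite T] [IsSimpleGroup T] (hT : ¬ IsMulCommutative T)
    (hab : ∀ a b : MulAut T, a * b * a⁻¹ * b⁻¹ ∈ (MulAut.conj : T →* MulAut T).range) (hp : p = 2)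
    {H N : Subgroup (MulAut T)} (hi : ¬ p ∣ H.index) (x : MulAut T)
    (hN : ∀ n ∈ N, n ∈ H ∧ x⁻¹ * n * x ∈ H)
    (hN1 : ∀ n ∈ N, ∀ y ∈ H, x⁻¹ * y * x ∈ H → y * n * y⁻¹ ∈ N)
    (hN2 : ∀ n ∈ N, ∀ k, n ^ p ^ k = 1 → n = 1)
    (hu : ∀ R : Subgroup (MulAut T), IsPGroup p R → (∀ y ∈ R, y ∈ H ∧ x⁻¹ * y * x ∈ H) →
      ∃ u ∈ N, ∀ y ∈ R, ∀ y' ∈ R, u * y = y * u → u * y' = y' * u → y ≠ 1 → y' ≠ 1 → y = y') : Row3 p T := by
  subst hp
  have hF : Fact (Nat.Prime 2) := ⟨Nat.prime_two⟩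
  obtain ⟨R, hR, hRD, hc⟩ := core hi x hN hN1 hN2
  obtain ⟨u, huN, hu'⟩ := hu R hR hRD
  obtain ⟨P, P', hPP⟩ := hc u huN
  obtain ⟨g, hg⟩ := MulAction.exists_smul_eq (MulAut T) P P'
  have hIn : ((MulAut.conj : T →* MulAut T).range).Normal := ⟨by
    rintro _ ⟨t, rfl⟩ g
    exact ⟨g t, (Cfsg.Agent.H903.SylMeet.conj_apply_aut g t).symm⟩⟩
  let B : Subgroup (MulAut T) := (MulAut.conj : T →* MulAut T).range ⊔ (P : Subgroup (MulAut T))
  have hIB : (MulAut.conj : T →* MulAut T).range ≤ B := le_sup_left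
  have hPB : (P : Subgroup (MulAut T)) ≤ B := le_sup_right
  have hBn : B.Normal := ⟨by
    intro b hb a
    have h1 : a * b * a⁻¹ = (a * b * a⁻¹ * b⁻¹) * b := by group
    rw [h1]
    exact B.mul_mem (hIB (hab a b)) hb⟩
  have h1 := P.normalizer_sup_eq_top' hPB
  have h2 : g ∈ (⊤ : Subgroup (MulAut T)) := mem_top g
  rw [← h1, sup_comm] at h2
  obtain ⟨b, hb, n, hn, hbn⟩ := mem_sup_of_normal_left.1 h2
  obtain ⟨i, hi', q, hq, hiq⟩ := mem_sup_of_normal_left.1 hb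
  obtain ⟨t, rfl⟩ := hi'
  -- `P' = t P t⁻¹`
  have hP' : ∀ y, y ∈ P' → (MulAut.conj t)⁻¹ * y * MulAut.conj t ∈ P := by
    intro y hy
    rw [← hg, ← SetLike.mem_coe, Sylow.coe_smul] at hy
    obtain ⟨z, hz, hzy⟩ := hy
    have h3 : g * z * g⁻¹ = y := by
      rw [← hzy]
      simp [MulAut.smul_def, MulAut.conj_apply]
    rw [← h3, ← hbn, ← hiq]
    have h4 : (MulAut.conj t)⁻¹ * (MulAut.conj t * q * n * z * (MulAut.conj t * q * n)⁻¹) * MulAut.conj t =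
        q * (n * z * n⁻¹) * q⁻¹ := by group
    rw [h4]
    have h5 : n * z * n⁻¹ ∈ (P : Subgroup (MulAut T)) := (mem_normalizer_iff.1 hn z).1 hz
    exact (P : Subgroup (MulAut T)).mul_mem ((P : Subgroup (MulAut T)).mul_mem hq h5)
      ((P : Subgroup (MulAut T)).inv_mem hq)
  have hP'' : ∀ y, (MulAut.conj t)⁻¹ * y * MulAut.conj t ∈ P → y ∈ P' := by
    intro y hy
    let Q : Subgroup (MulAut T) := (P : Subgroup (MulAut T)).comap (MulAut.conj (MulAut.conj t)⁻¹).toMonoidHom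
    have hQ : IsPGroup 2 Q := P.isPGroup'.comap_of_injective _ (MulAut.conj (MulAut.conj t)⁻¹).injective
    have hle : (P' : Subgroup (MulAut T)) ≤ Q := by
      intro z hz
      rw [mem_comap]
      change (MulAut.conj t)⁻¹ * z * (MulAut.conj t)⁻¹⁻¹ ∈ P
      rw [inv_inv]
      exact hP' z hz
    have h3 := P'.is_maximal' hQ hle
    have h4 : y ∈ Q := by
      rw [mem_comap]
      change (MulAut.conj t)⁻¹ * y * (MulAut.conj t)⁻¹⁻¹ ∈ P
      rw [inv_inv]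
      exact hy
    rw [h3] at h4
    exact h4
  refine row3_of_index (P : Subgroup (MulAut T)) P.isPGroup' P.not_dvd_index ?_
  refine g3_of_two hT P.isPGroup' t⁻¹ (card_le_two ?_)
  intro y hy y' hy' h5 h6
  have key : ∀ z, z ∈ DD (P : Subgroup (MulAut T)) t⁻¹ → z ∈ R ∧ u * z = z * u := by
    intro z hz
    obtain ⟨hz1, hz2⟩ := mem_DD.1 hz
    refine hPP z hz1 (hP'' z ?_)
    rw [map_inv, inv_inv] at hz2
    exact hz2
  obtain ⟨k1, k2⟩ := key y hy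
  obtain ⟨k3, k4⟩ := key y' hy'
  exact hu' y k1 y' k3 k2 k4 h5 h6

end Cfsg.Agent.H458.B3
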